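import Mathlib

universe u

open IsLocalRing

namespace Groth.Agent.LocDimLib

theorem ringKrullDim_le_of_fiber {A B : Type u} [CommRing A] [CommRing B]
    [IsLocalRing A] [IsLocalRing B] [IsNoetherianRing A] [IsNoetherianRing B] [Algebra A B]
    [IsLocalHom (algebraMap A B)]
    (hdef : ringKrullDim (B ⧸ (maximalIdeal A).map (algebraMap A B)) ≤ 0) :
    ringKrullDim B ≤ ringKrullDim A := by
  have hlo : (maximalIdeal B).LiesOver (maximalIdeal A) :=
    ⟨(IsLocalRing.maximalIdeal_comap (algebraMap A B)).symm⟩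
  have h := Ideal.height_le_height_add_of_liesOver (maximalIdeal A) (maximalIdeal B)
  set J := (maximalIdeal A).map (algebraMap A B)
  have hJ : J ≤ maximalIdeal B := by
    rw [Ideal.map_le_iff_le_comap, hlo.over]
  set P' := (maximalIdeal B).map (Ideal.Quotient.mk J) with hP'
  have hne : P' ≠ ⊤ := fun he => by
    have := congrArg (Ideal.comap (Ideal.Quotient.mk J)) he
    rw [hP', Ideal.comap_map_of_surjective _ Ideal.Quotient.mk_surjective, Ideal.comap_top,
      ← RingHom.ker_eq_comap_bot, Ideal.mk_ker, sup_eq_left.2 hJ] at this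
    exact (maximalIdeal.isMaximal B).ne_top this
  have h0 : P'.height = 0 := by
    have := (Ideal.height_le_ringKrullDim_of_ne_top hne).trans hdef
    exact le_antisymm (by exact_mod_cast this) bot_le
  rw [← maximalIdeal_height_eq_ringKrullDim, ← maximalIdeal_height_eq_ringKrullDim]
  rw [h0, add_zero] at h
  exact_mod_cast h

theorem injective_of_fiber {A B : Type u} [CommRing A] [CommRing B]
    [IsLocalRing A] [IsLocalRing B] [IsNoetherianRing A] [IsNoetherianRing B] [Algebra A B]
    [IsLocalHom (algebraMap A B)] [IsDomain A]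
    (hdef : ringKrullDim (B ⧸ (maximalIdeal A).map (algebraMap A B)) ≤ 0)
    (heq : ringKrullDim A = ringKrullDim B) : Function.Injective (algebraMap A B) := by
  rw [injective_iff_map_eq_zero]
  by_contra hcon
  push Not at hcon
  obtain ⟨r, hr, hr0⟩ := hcon
  set I := Ideal.span {r} with hI
  have hru : ¬ IsUnit r := fun hu => by
    have := hu.map (algebraMap A B)
    rw [hr] at this
    exact not_isUnit_zero this
  have hIne : I ≠ ⊤ := by rwa [hI, Ne, Ideal.span_singleton_eq_top]
  have : Nontrivial (A ⧸ I) := Ideal.Quotient.nontrivial_iff.2 hIne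
  have : IsLocalRing (A ⧸ I) :=
    IsLocalRing.of_surjective' (Ideal.Quotient.mk I) Ideal.Quotient.mk_surjective
  have hker : ∀ a ∈ I, algebraMap A B a = 0 := by
    intro a ha
    obtain ⟨c, rfl⟩ := Ideal.mem_span_singleton'.1 ha
    rw [map_mul, hr, mul_zero]
  letI : Algebra (A ⧸ I) B := (Ideal.Quotient.lift I (algebraMap A B) hker).toAlgebra
  have hcomp : (algebraMap (A ⧸ I) B).comp (Ideal.Quotient.mk I) = algebraMap A B := by
    ext a; rfl
  haveI : IsLocalHom (algebraMap (A ⧸ I) B) := ⟨fun a ha => by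
    obtain ⟨a, rfl⟩ := Ideal.Quotient.mk_surjective a
    rw [← RingHom.comp_apply, hcomp] at ha
    exact ((isUnit_map_iff (algebraMap A B) a).1 ha).map _⟩
  have hmax : maximalIdeal (A ⧸ I) = (maximalIdeal A).map (Ideal.Quotient.mk I) :=
    (IsLocalRing.map_maximalIdeal_of_surjective _ Ideal.Quotient.mk_surjective).symm
  have h1 := ringKrullDim_le_of_fiber (A := A ⧸ I) (B := B) (by
    rw [hmax, Ideal.map_map, hcomp]; exact hdef)
  have h2 : ringKrullDim (A ⧸ I) + 1 ≤ ringKrullDim A :=
    ringKrullDim_quotient_succ_le_of_nonZeroDivisor (mem_nonZeroDivisors_of_ne_zero hr0)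
  rw [← heq] at h1
  have h3 : ringKrullDim A + 1 ≤ ringKrullDim A := (add_le_add h1 le_rfl).trans h2
  obtain ⟨n, hn⟩ : ∃ n : ℕ, ringKrullDim A = n := by
    obtain ⟨n, hn⟩ := ENat.ne_top_iff_exists.1
      (Ideal.height_ne_top (I := maximalIdeal A) (maximalIdeal.isMaximal A).ne_top)
    exact ⟨n, by rw [← maximalIdeal_height_eq_ringKrullDim, ← hn]; rfl⟩
  rw [hn] at h3
  norm_cast at h3
  omega

end Groth.Agent.LocDimLib
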